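import Cfsg.Agent.H124.SplitNC
import Cfsg.Agent.ClassicalGeometry.PSL2Basic
import Cfsg.Agent.ClassicalGeometry.SympInvolutions
import Cfsg.Agent.H104.Closed_m3
import Mathlib
import Cfsg.Agent.H123.AltRow_m3
import Cfsg.Agent.H122.Cyc.Order
import Cfsg.Agent.H122.OrthBasePlus
import Cfsg.Agent.S2332
import Cfsg.Agent.H121.Cyc.Prime
import Cfsg.Agent.H123.RowPSp
import Cfsg.Agent.H259.NatMod
import Cfsg.Agent.S2299
import Cfsg.Agent.S2300
import Cfsg.Agent.Prune
set_option linter.all false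
prune_inst 0x7f00000000000000000000000000000000000000000000000000000000000000000000000000000000000000000000000000000000000000000000000000000000000000000000000000000000000000003fffffffffffffffffffffffffffbeffbdffffffff
open scoped Cfsg.Agent.FastGrp

-- part: H124/SplitNCSp
section
/-!
# Noncyclic Sylow subgroups of the symplectic groups (helper124)

`psp` : `m ≥ 2`, `p` odd, `p ∣ q ^ 2 - 1`: the Sylow `p`-subgroups of `PSp_{2m}(q)` are not cyclic.
-/

set_option autoImplicit false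

namespace Cfsg.Agent.H124.SplitNC

open Subgroup Cfsg.Agent.H123.SpNC
open scoped Matrix

section Sp

variable {F : Type*} [Field F]

/-- an element of order `p` of `SL₂` -/
theorem exists_sl2 [Fintype F] {p : ℕ} [hp : Fact p.Prime] (h : p ∣ Fintype.card F ^ 2 - 1) :
    ∃ x : Matrix.SpecialLinearGroup (Fin 2) F, orderOf x = p := by
  apply exists_prime_orderOf_dvd_card' p
  rw [ClassicalGeometry.PSL2Basic.card_SL2]
  exact Dvd.dvd.mul_left h _

/-- powers of an element of order `p` in a direct power -/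
theorem single_not_mem {ι : Type*} [DecidableEq ι] {G : Type*} [Group G] {x : G} (hx : x ≠ 1) {i j : ι} (hij : i ≠ j) :
    (Pi.mulSingle j x : ι → G) ∉ zpowers (Pi.mulSingle i x : ι → G) := by
  rintro ⟨k, hk⟩
  have h1 := congrFun hk j
  have h2 : ((Pi.mulSingle i x : ι → G) ^ k) j = 1 := by
    rw [Pi.pow_apply, Pi.mulSingle_eq_of_ne hij.symm, one_zpow]
  have h3 : (Pi.mulSingle j x : ι → G) j = 1 := by
    rw [← h1]
    exact h2
  rw [Pi.mulSingle_eq_same] at h3
  exact hx h3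

theorem orderOf_single {ι : Type*} [DecidableEq ι] {G : Type*} [Group G] {x : G} {p : ℕ} [hp : Fact p.Prime]
    (hx : orderOf x = p) (i : ι) : orderOf (Pi.mulSingle i x : ι → G) = p := by
  refine orderOf_eq_prime ?_ ?_
  · rw [← Pi.mulSingle_pow, ← hx, pow_orderOf_eq_one, Pi.mulSingle_one]
  · intro h
    have h1 := congrFun h i
    rw [Pi.mulSingle_eq_same, Pi.one_apply] at h1
    rw [h1, orderOf_one] at hx
    exact hp.out.one_lt.ne hx

theorem single_comm {ι : Type*} [DecidableEq ι] {G : Type*} [Group G] (x y : G) {i j : ι} (hij : i ≠ j) :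
    (Pi.mulSingle i x : ι → G) * Pi.mulSingle j y = Pi.mulSingle j y * Pi.mulSingle i x :=
  Pi.mulSingle_commute (f := fun _ => G) hij x y

/-- two elements in a direct power -/
theorem nc_pow {ι : Type*} [DecidableEq ι] {L : Type*} [Group L] {p : ℕ} [hp : Fact p.Prime] {x : L}
    (hx : orderOf x = p) {i j : ι} (hij : i ≠ j) {G : Type*} [Group G] [Finite G] (g : (ι → L) →* G)
    (hg : ∀ x : ι → L, x ^ p = 1 → g x = 1 → x = 1) : NC p G := by
  have hx1 : x ≠ 1 := by
    rintro rfl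
    rw [orderOf_one] at hx
    exact hp.out.one_lt.ne hx
  refine nc_of_hom g hg (orderOf_single hx i) (b := Pi.mulSingle j x) ?_ (single_comm x x hij)
    (single_not_mem hx1 hij)
  rw [← Pi.mulSingle_pow, ← hx, pow_orderOf_eq_one, Pi.mulSingle_one]

end Sp

end Cfsg.Agent.H124.SplitNC
end

-- part: H124/SplitNCO
section
/-!
# Noncyclic Sylow subgroups of the orthogonal groups (helper124)

`pomega_odd`, `pomega_plus`, `pomega_minus`: `p` odd, `p ∣ q ^ 2 - 1`: the Sylow `p`-subgroups of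
`PΩ_{2m+1}(q)` (`m ≥ 3`), `PΩ⁺_{2m}(q)` (`m ≥ 3`) and `PΩ⁻_{2m}(q)` (`m ≥ 4`) are not cyclic.
-/

set_option autoImplicit false

namespace Cfsg.Agent.H124.SplitNC

open Subgroup Cfsg.Agent.H123.SpNC QuadraticMap
open Cfsg.Agent.LieClassical
open scoped Matrix

section Four

variable {F : Type*} [Field F]

/-- `SL₂ × SL₂` in `SL₄` -/
def slFour (F : Type*) [Field F] : (Fin 2 → Matrix.SpecialLinearGroup (Fin 2) F) →* Matrix.SpecialLinearGroup (Fin 4) F where
  toFun g := ⟨(Matrix.blockDiagonal fun k => (g k : Matrix (Fin 2) (Fin 2) F)).submatrix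
    (finProdFinEquiv (m := 2) (n := 2)).symm (finProdFinEquiv (m := 2) (n := 2)).symm, by
      rw [Matrix.det_submatrix_equiv_self, Matrix.det_blockDiagonal]
      exact Finset.prod_eq_one fun k _ => (g k).2⟩
  map_one' := by
    apply Subtype.ext
    show (Matrix.blockDiagonal (1 : Fin 2 → Matrix (Fin 2) (Fin 2) F)).submatrix
      (finProdFinEquiv (m := 2) (n := 2)).symm (finProdFinEquiv (m := 2) (n := 2)).symm = 1
    rw [Matrix.blockDiagonal_one, Matrix.submatrix_one_equiv]
  map_mul' g h := by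
    apply Subtype.ext
    show (Matrix.blockDiagonal fun k => (g k : Matrix (Fin 2) (Fin 2) F) * (h k : Matrix (Fin 2) (Fin 2) F)).submatrix
      (finProdFinEquiv (m := 2) (n := 2)).symm (finProdFinEquiv (m := 2) (n := 2)).symm =
      (Matrix.blockDiagonal fun k => (g k : Matrix (Fin 2) (Fin 2) F)).submatrix
        (finProdFinEquiv (m := 2) (n := 2)).symm (finProdFinEquiv (m := 2) (n := 2)).symm *
      (Matrix.blockDiagonal fun k => (h k : Matrix (Fin 2) (Fin 2) F)).submatrix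
        (finProdFinEquiv (m := 2) (n := 2)).symm (finProdFinEquiv (m := 2) (n := 2)).symm
    rw [Matrix.blockDiagonal_mul, Matrix.submatrix_mul_equiv]

theorem slFour_injective : Function.Injective (slFour F) := by
  rw [injective_iff_map_eq_one]
  intro g hg
  have h1 : (Matrix.blockDiagonal fun k => (g k : Matrix (Fin 2) (Fin 2) F)).submatrix
    (finProdFinEquiv (m := 2) (n := 2)).symm (finProdFinEquiv (m := 2) (n := 2)).symm = 1 := congrArg Subtype.val hg
  funext k
  apply Subtype.ext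
  ext i j
  have h2 := congrFun (congrFun h1 (finProdFinEquiv (m := 2) (n := 2) (i, k)))
    (finProdFinEquiv (m := 2) (n := 2) (j, k))
  rw [Matrix.submatrix_apply, Equiv.symm_apply_apply, Equiv.symm_apply_apply, Matrix.blockDiagonal_apply_eq] at h2
  rw [h2]
  by_cases hij : i = j
  · subst hij
    rw [Matrix.one_apply_eq]
    exact (Matrix.one_apply_eq i).symm
  · rw [Matrix.one_apply_ne]
    · exact (Matrix.one_apply_ne hij).symm
    · intro h
      have := (finProdFinEquiv (m := 2) (n := 2)).injective h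
      exact hij (Prod.ext_iff.1 this).1

end Four

section Orth

variable {F : Type} [Field F] [Fintype F] {ι : Type} [Fintype ι] [DecidableEq ι]

/-- the general orthogonal statement -/
theorem pomega {Q : QuadraticForm F (ι → F)} (hQ : (polarBilin Q).Nondegenerate)
    (hn : 3 ≤ Fintype.card ι) (hs : ∃ u : ι → F, u ≠ 0 ∧ Q u = 0) {w : ℕ} (hw : 3 ≤ w)
    (hemb : ∃ f : Cfsg.isometryGroup F (Cfsg.quadFormPlus w F) →* Cfsg.isometryGroup F (⇑Q),
      Function.Injective f) {p : ℕ} [hp : Fact p.Prime] (hp2 : p ≠ 2)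
    (h : p ∣ Fintype.card F ^ 2 - 1) : NC p (Cfsg.POmega F (⇑Q)) := by
  obtain ⟨f, hf⟩ := hemb
  obtain ⟨f₁, hf₁⟩ := H104.OrthEmb.exists_klein (F := F) hp.out hp2
  obtain ⟨f₂, hf₂⟩ := H104.OrthEmb.exists_emb_plus (F := F) hw
  obtain ⟨x, hx⟩ := exists_sl2 (F := F) h
  let f' : Matrix.SpecialLinearGroup (Fin 4) F →* Cfsg.isometryGroup F (⇑Q) := (f.comp f₂).comp f₁
  have hmem : ∀ x : Matrix.SpecialLinearGroup (Fin 4) F, f' x ∈ Cfsg.Omega F (⇑Q) := by
    intro x
    have h1 : x ∈ commutator (Matrix.SpecialLinearGroup (Fin 4) F) := by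
      rw [SLGen.commutator_eq_top (by simp)]; exact Subgroup.mem_top x
    have h2 : f' x ∈ (commutator (Matrix.SpecialLinearGroup (Fin 4) F)).map f' := ⟨x, h1, rfl⟩
    have h3 : (commutator (Matrix.SpecialLinearGroup (Fin 4) F)).map f' ≤
        commutator (Cfsg.isometryGroup F (⇑Q)) := by
      rw [commutator_def, commutator_def, Subgroup.map_commutator]
      exact Subgroup.commutator_mono le_top le_top
    exact h3 h2
  let f'' : Matrix.SpecialLinearGroup (Fin 4) F →* Cfsg.Omega F (⇑Q) := f'.codRestrict _ hmem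
  refine nc_pow hx (show (0 : Fin 2) ≠ 1 by decide)
    (((QuotientGroup.mk' (Subgroup.center (Cfsg.Omega F (⇑Q)))).comp f'').comp (slFour F)) ?_
  intro g hg h1
  have h2 := H104.OrthEmb.center_free hQ hn hs hp.out hp2 (f'' (slFour F g)) (by rw [← map_pow, ← map_pow, hg,
    map_one, map_one]) h1
  have h3 : f' (slFour F g) = 1 := congrArg Subtype.val h2
  have h4 : f₁ (slFour F g) = 1 := by
    apply hf₂
    apply hf
    rw [map_one, map_one]
    exact h3
  have h5 := hf₁ (slFour F g) (by rw [← map_pow, hg, map_one]) h4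
  exact slFour_injective (by rw [h5, map_one])

/-- **`PΩ⁺_{2m}(q)`.** -/
theorem pomega_plus {m : ℕ} (hm : 3 ≤ m) {p : ℕ} [hp : Fact p.Prime] (hp2 : p ≠ 2)
    (h : p ∣ Fintype.card F ^ 2 - 1) : NC p (Cfsg.POmega F (Cfsg.quadFormPlus m F)) := by
  have key := @pomega F _ _ _ _ _ (OmegaReindex.quadPlus m F) OmegaReindex.quadPlus_nondegenerate
    (by simp only [_root_.Fintype.card_sum, _root_.Fintype.card_fin]; omega) (OmegaReindex.quadPlus_isotropic (by omega)) m hm (by
      rw [OmegaReindex.coe_quadPlus]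
      exact ⟨MonoidHom.id _, fun _ _ h => h⟩) p _ hp2 h
  rw [OmegaReindex.coe_quadPlus] at key
  exact key

end Orth

end Cfsg.Agent.H124.SplitNC
end

-- part: H122/Cyc/Arith
section
/-!
# Arithmetic for the orthogonal rows of S2351
-/

set_option autoImplicit false

namespace Cfsg.Agent.H122.Cyc

theorem ar_plus {q m : ℕ} (hq : 2 ≤ q) (hm : 3 ≤ m) :
    q ^ m - 1 ≤ (q ^ m - 1) * (q ^ (m - 1) + q) / (q ^ 2 - 1) := by
  have h2 : 2 ^ 2 ≤ q ^ 2 := Nat.pow_le_pow_left hq 2
  rw [Nat.le_div_iff_mul_le (by omega)]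
  apply Nat.mul_le_mul_left
  have h3 : q ^ 2 ≤ q ^ (m - 1) := Nat.pow_le_pow_right (by omega) (by omega)
  omega

theorem ar_minus {q m : ℕ} (hq : 2 ≤ q) (hm : 4 ≤ m) :
    q ^ m - 1 ≤ (q ^ m + 1) * (q ^ (m - 1) - q) / (q ^ 2 - 1) := by
  have h2 : 2 ^ 2 ≤ q ^ 2 := Nat.pow_le_pow_left hq 2
  rw [Nat.le_div_iff_mul_le (by omega)]
  apply Nat.mul_le_mul (by omega)
  have h3 : q ^ 3 ≤ q ^ (m - 1) := Nat.pow_le_pow_right (by omega) (by omega)
  have h4 : q ^ 2 * 2 ≤ q ^ 3 := by
    rw [pow_succ q 2]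
    exact Nat.mul_le_mul_left _ hq
  have h5 : q * 2 ≤ q ^ 2 := by
    rw [pow_two]
    exact Nat.mul_le_mul_left _ hq
  omega

theorem ar_odd {q n t : ℕ} (hq : 2 ≤ q) (hn : 3 ≤ n) (ht : t * (q ^ 2 - 1) = q ^ (2 * n) - 1) : q ^ n - 1 ≤ t := by
  have h2 : 2 ^ 2 ≤ q ^ 2 := Nat.pow_le_pow_left hq 2
  have h3 : q ^ 2 ≤ q ^ n := Nat.pow_le_pow_right (by omega) (by omega)
  have h4 : (q ^ n - 1) * (q ^ n + 1) = q ^ (2 * n) - 1 := by
    have h5 : (q ^ n + 1) * (q ^ n - 1) = (q ^ n) ^ 2 - 1 ^ 2 := (Nat.sq_sub_sq _ _).symm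
    rw [mul_comm, h5, one_pow, ← pow_mul, mul_comm n 2]
  have h6 : (q ^ n - 1) * (q ^ 2 - 1) ≤ t * (q ^ 2 - 1) := by
    rw [ht, ← h4]
    exact Nat.mul_le_mul_left _ (by omega)
  exact Nat.le_of_mul_le_mul_right h6 (by omega)

/-- `q = 3`: an odd divisor of `3 ^ e ± 1` -/
theorem ar_three {p a m : ℕ} (hp : p.Prime) (hp2 : p ≠ 2)
    (h : ∃ e, 1 ≤ e ∧ e ≤ m ∧ (p ^ a ∣ 3 ^ e - 1 ∨ p ^ a ∣ 3 ^ e + 1)) :
    p ^ a ≤ (3 ^ m - 3) / (3 - 1) + 2 := by
  obtain ⟨e, he1, hem, h⟩ := h
  have h1 : 3 ^ e ≤ 3 ^ m := Nat.pow_le_pow_right (by omega) hem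
  have h2 : 3 ≤ 3 ^ e := Nat.le_self_pow (by omega) 3
  have hcop : Nat.Coprime 2 (p ^ a) :=
    ((Nat.coprime_primes Nat.prime_two hp).2 (Ne.symm hp2)).pow_right a
  have hodd : ∀ n : ℕ, Odd (3 ^ n) := fun n => Odd.pow (by decide)
  have key : 2 * p ^ a ≤ 3 ^ m + 1 := by
    obtain ⟨r, hr⟩ := hodd e
    rcases h with h | h
    · have h3 : 2 * p ^ a ∣ 3 ^ e - 1 := hcop.mul_dvd_of_dvd_of_dvd ⟨r, by omega⟩ h
      have := Nat.le_of_dvd (by omega) h3
      omega
    · have h3 : 2 * p ^ a ∣ 3 ^ e + 1 := hcop.mul_dvd_of_dvd_of_dvd ⟨r + 1, by omega⟩ h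
      have := Nat.le_of_dvd (by omega) h3
      omega
  omega

/-- `p ^ a = 2 ^ m + 1`, `a ≥ 2`, forces `m = 3` -/
theorem ar_two {p a m : ℕ} (hp : p.Prime) (hp2 : p ≠ 2) (ha : 2 ≤ a) (h : p ^ a = 2 ^ m + 1) : m = 3 := by
  have hpodd : Odd p := hp.odd_of_ne_two hp2
  rcases Nat.even_or_odd' a with ⟨c, rfl | rfl⟩
  · -- `(p ^ c - 1) (p ^ c + 1) = 2 ^ m`
    have h1 : (p ^ c + 1) * (p ^ c - 1) = 2 ^ m := by
      have h2 : (p ^ c + 1) * (p ^ c - 1) = (p ^ c) ^ 2 - 1 ^ 2 := (Nat.sq_sub_sq _ _).symm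
      rw [h2, one_pow, ← pow_mul, mul_comm c 2, h, Nat.add_sub_cancel]
    obtain ⟨i, -, hi⟩ := (Nat.dvd_prime_pow Nat.prime_two).1 (Dvd.intro _ h1)
    obtain ⟨j, -, hj⟩ := (Nat.dvd_prime_pow Nat.prime_two).1 (Dvd.intro_left _ h1)
    have h3 : 3 ≤ p ^ c := by
      have h4 : p ≤ p ^ c := Nat.le_self_pow (by omega) p
      have h5 : 3 ≤ p := by
        have := hp.two_le
        omega
      omega
    have hj1 : j = 1 := by
      by_contra hcon
      have hj0 : j ≠ 0 := by
        rintro rfl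
        rw [pow_zero] at hj
        omega
      have hi0 : 2 ≤ i := by
        by_contra hcon2
        have : i = 0 ∨ i = 1 := by omega
        rcases this with rfl | rfl
        · rw [pow_zero] at hi; omega
        · rw [pow_one] at hi; omega
      have h6 : 4 ∣ 2 ^ i := (pow_dvd_pow 2 hi0 : 2 ^ 2 ∣ 2 ^ i)
      have h7 : 4 ∣ 2 ^ j := (pow_dvd_pow 2 (by omega : 2 ≤ j) : 2 ^ 2 ∣ 2 ^ j)
      rw [← hi] at h6
      rw [← hj] at h7
      omega
    rw [hj1, pow_one] at hj
    have h8 : p ^ c = 3 := by omega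
    rw [h8] at h1
    have h9 : 2 ^ m = 2 ^ 3 := by rw [← h1]; norm_num
    exact Nat.pow_right_injective (le_refl 2) h9
  · -- the geometric sum is odd
    exfalso
    have h1 : (p - 1) * ∑ i ∈ Finset.range (2 * c + 1), p ^ i = 2 ^ m := by
      have h2 := Nat.geomSum_eq hp.two_le (2 * c + 1)
      have h3 : p - 1 ∣ p ^ (2 * c + 1) - 1 := by
        have := Nat.sub_dvd_pow_sub_pow p 1 (2 * c + 1)
        rwa [one_pow] at this
      rw [h2, Nat.mul_div_cancel' h3, h, Nat.add_sub_cancel]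
    have hodd : Odd (∑ i ∈ Finset.range (2 * c + 1), p ^ i) := by
      rw [Finset.odd_sum_iff_odd_card_odd]
      have h4 : (Finset.range (2 * c + 1)).filter (fun i => Odd (p ^ i)) = Finset.range (2 * c + 1) := by
        apply Finset.filter_true_of_mem
        intro i _
        exact hpodd.pow
      rw [h4, Finset.card_range]
      exact ⟨c, rfl⟩
    obtain ⟨j, -, hj⟩ := (Nat.dvd_prime_pow Nat.prime_two).1 (Dvd.intro_left _ h1)
    have hj0 : j = 0 := by
      by_contra hcon
      rw [hj] at hodd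
      exact (Nat.not_even_iff_odd.2 hodd) ((Nat.even_pow' hcon).2 even_two)
    rw [hj0, pow_zero] at hj
    have h5 : p ^ 1 ≤ ∑ i ∈ Finset.range (2 * c + 1), p ^ i :=
      Finset.single_le_sum (f := fun i => p ^ i) (fun _ _ => Nat.zero_le _) (Finset.mem_range.2 (by omega))
    rw [hj, pow_one] at h5
    have := hp.two_le
    omega

/-- `q = 2`, `m ≥ 4` -/
theorem ar_two' {p a m : ℕ} (hp : p.Prime) (hp2 : p ≠ 2) (ha : 2 ≤ a) (hm : 4 ≤ m)
    (h : ∃ e, 1 ≤ e ∧ e ≤ m ∧ (p ^ a ∣ 2 ^ e - 1 ∨ p ^ a ∣ 2 ^ e + 1)) :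
    p ^ a ≤ (2 ^ m - 2) / (2 - 1) + 2 := by
  obtain ⟨e, he1, hem, h⟩ := h
  have h2 : 2 ≤ 2 ^ e := Nat.le_self_pow (by omega) 2
  have h4 : 2 ^ e ≤ 2 ^ m := Nat.pow_le_pow_right (by omega) hem
  rcases h with h | h
  · have := Nat.le_of_dvd (by omega) h
    omega
  · have h5 := Nat.le_of_dvd (by omega) h
    by_cases hem' : e = m
    · subst hem'
      have h6 : p ^ a ≠ 2 ^ e + 1 := fun h7 => by
        have := ar_two hp hp2 ha h7
        omega
      omega
    · have h6 : 2 ^ (e + 1) ≤ 2 ^ m := Nat.pow_le_pow_right (by omega) (by omega)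
      rw [pow_succ] at h6
      omega

/-- no squares of primes `p ≥ 5` divide `2 ^ e ± 1`, `e ≤ 4` -/
theorem ar_small_two {p a : ℕ} (hp5 : 5 ≤ p) (ha : 2 ≤ a)
    (h : ∃ e, 1 ≤ e ∧ e ≤ 4 ∧ (p ^ a ∣ 2 ^ e - 1 ∨ p ^ a ∣ 2 ^ e + 1)) : False := by
  obtain ⟨e, he1, hem, h⟩ := h
  have h1 : 5 ^ 2 ≤ p ^ a := (Nat.pow_le_pow_left hp5 2).trans (Nat.pow_le_pow_right (by omega) ha)
  have h2 : 2 ≤ 2 ^ e := Nat.le_self_pow (by omega) 2
  have h4 : 2 ^ e ≤ 2 ^ 4 := Nat.pow_le_pow_right (by omega) hem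
  rcases h with h | h
  · have := Nat.le_of_dvd (by omega) h
    omega
  · have := Nat.le_of_dvd (by omega) h
    omega

/-- no squares of primes `p ≥ 5` divide `3 ^ e ± 1`, `e ≤ 4` -/
theorem ar_small_three {p a : ℕ} (hp : p.Prime) (hp5 : 5 ≤ p) (ha : 2 ≤ a)
    (h : ∃ e, 1 ≤ e ∧ e ≤ 4 ∧ (p ^ a ∣ 3 ^ e - 1 ∨ p ^ a ∣ 3 ^ e + 1)) : False := by
  obtain ⟨e, he1, hem, h⟩ := h
  have h1 : p ^ 2 ∣ p ^ a := pow_dvd_pow p ha
  have h3 : p ^ 2 ∣ 3 ^ e - 1 ∨ p ^ 2 ∣ 3 ^ e + 1 := h.imp h1.trans h1.trans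
  have h2 : 3 ≤ 3 ^ e := Nat.le_self_pow (by omega) 3
  have h4 : 3 ^ e ≤ 3 ^ 4 := Nat.pow_le_pow_right (by omega) hem
  have hp9 : p ≤ 9 := by
    by_contra hcon
    have h5 : 10 ^ 2 ≤ p ^ 2 := Nat.pow_le_pow_left (by omega) 2
    rcases h3 with h3 | h3
    · have := Nat.le_of_dvd (by omega) h3
      omega
    · have := Nat.le_of_dvd (by omega) h3
      omega
  have hp57 : p = 5 ∨ p = 7 := by
    interval_cases p
    · left; rfl
    · revert hp; decide
    · right; rfl
    · revert hp; decide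
    · revert hp; decide
  rcases hp57 with rfl | rfl <;> interval_cases e <;> revert h3 <;> decide

end Cfsg.Agent.H122.Cyc
end

-- part: H122/Cyc/Base
section
/-!
# The orthogonal rows of S2351: general statements

* `nc_char`: no cyclic Sylow subgroup in the defining characteristic;
* `order_omega`: the orders of the `p`-elements of `Ω(Q)`;
* `minDeg_sl`: the minimal degree of `SL_n(q)` restricted along `SL_w(q) → Ω(Q)`.
-/

set_option autoImplicit false

namespace Cfsg.Agent.H122.Cyc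

open Subgroup QuadraticMap Cfsg.Agent.H123.SpNC Cfsg.Agent.H121.Cyc
open Cfsg.Agent.LieClassical

section SL

variable {F : Type*} [Field F] {n : Type*} [DecidableEq n] [Fintype n]

/-- a transvection in `SL` -/
def tv (i j : n) (hij : i ≠ j) (c : F) : Matrix.SpecialLinearGroup n F :=
  ⟨Matrix.transvection i j c, Matrix.det_transvection_of_ne i j hij c⟩

theorem tv_mul (i j : n) (hij : i ≠ j) (c d : F) : tv i j hij c * tv i j hij d = tv i j hij (c + d) :=
  Subtype.ext (Matrix.transvection_mul_transvection_same i j hij c d)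

/-- as a homomorphism -/
def tvHom (i j : n) (hij : i ≠ j) : Multiplicative F →* Matrix.SpecialLinearGroup n F :=
  MonoidHom.mk' (fun c => tv i j hij c.toAdd) (fun c d => (tv_mul i j hij c.toAdd d.toAdd).symm)

theorem tv_comm {i j k : n} (hij : i ≠ j) (hik : i ≠ k) (c d : F) :
    tv i j hij c * tv i k hik d = tv i k hik d * tv i j hij c := by
  apply Subtype.ext
  show Matrix.transvection i j c * Matrix.transvection i k d = Matrix.transvection i k d * Matrix.transvection i j c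
  have e1 : Matrix.single i j c * Matrix.single i k d = (0 : Matrix n n F) :=
    Matrix.single_mul_single_of_ne _ _ _ _ (Ne.symm hij) _
  have e2 : Matrix.single i k d * Matrix.single i j c = (0 : Matrix n n F) :=
    Matrix.single_mul_single_of_ne _ _ _ _ (Ne.symm hik) _
  simp only [Matrix.transvection, mul_add, add_mul, mul_one, one_mul, e1, e2]
  abel

/-- two independent commuting elements of order `p` in `SL_n`, `n ≥ 3`, in the defining characteristic -/
theorem nc_of_sl {G : Type*} [Group G] [Finite G] {p : ℕ} [hp : Fact p.Prime] (hpF : (p : F) = 0)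
    {i j k : n} (hij : i ≠ j) (hik : i ≠ k) (hjk : j ≠ k) (φ : Matrix.SpecialLinearGroup n F →* G)
    (hφ : ∀ x, x ^ p = 1 → φ x = 1 → x = 1) : NC p G := by
  have hpow : ∀ (i j : n) (hij : i ≠ j), (tv i j hij (1 : F)) ^ p = 1 := by
    intro i j hij
    have h1 : tv i j hij (1 : F) = tvHom i j hij (Multiplicative.ofAdd 1) := rfl
    rw [h1, ← map_pow, ← ofAdd_nsmul, nsmul_eq_mul, hpF, zero_mul, ofAdd_zero, map_one]
  have hne : ∀ (i j : n) (hij : i ≠ j), tv i j hij (1 : F) ≠ 1 := by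
    intro i j hij h
    have h1 := congrArg (fun M : Matrix.SpecialLinearGroup n F => (M : Matrix n n F) i j) h
    have h2 : (Matrix.transvection i j (1 : F)) i j = (1 : Matrix n n F) i j := h1
    rw [Matrix.transvection, Matrix.add_apply, Matrix.one_apply_ne hij, Matrix.single_apply_same, zero_add] at h2
    exact one_ne_zero h2
  refine nc_of_pair (a := φ (tv i j hij 1)) (b := φ (tv i k hik 1)) ?_ ?_ ?_ ?_
  · apply orderOf_eq_prime
    · rw [← map_pow, hpow, map_one]
    · intro h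
      exact hne i j hij (hφ _ (hpow i j hij) h)
  · rw [← map_pow, hpow, map_one]
  · rw [← map_mul, ← map_mul, tv_comm]
  · intro hmem
    obtain ⟨m, hm⟩ := mem_zpowers_iff.1 hmem
    rw [← map_zpow] at hm
    have hcomm : Commute (tv i j hij (1 : F) ^ m) (tv i k hik 1)⁻¹ :=
      (Commute.zpow_left (tv_comm hij hik 1 1) m).inv_right
    have h1 : tv i j hij (1 : F) ^ m * (tv i k hik 1)⁻¹ = 1 := by
      apply hφ
      · rw [hcomm.mul_pow, inv_pow, hpow, inv_one, mul_one, ← zpow_natCast, ← zpow_mul, mul_comm m, zpow_mul,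
          zpow_natCast, hpow, one_zpow]
      · rw [map_mul, hm, map_inv, mul_inv_cancel]
    have h2 : tv i j hij (1 : F) ^ m = tv i k hik 1 := mul_inv_eq_one.1 h1
    have h3 : tv i j hij (1 : F) ^ m = tv i j hij ((m • (1 : F))) := by
      have h4 : tv i j hij (1 : F) = tvHom i j hij (Multiplicative.ofAdd 1) := rfl
      rw [h4, ← map_zpow, ← ofAdd_zsmul]
      rfl
    rw [h3] at h2
    have h4 := congrArg (fun M : Matrix.SpecialLinearGroup n F => (M : Matrix n n F) i k) h2
    have h5 : (Matrix.transvection i j (m • (1 : F))) i k = (Matrix.transvection i k (1 : F)) i k := h4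
    rw [Matrix.transvection, Matrix.transvection, Matrix.add_apply, Matrix.add_apply, Matrix.one_apply_ne hik,
      Matrix.single_apply_same, Matrix.single_apply_of_ne, add_zero, zero_add] at h5
    · exact zero_ne_one h5
    · rintro ⟨-, h⟩
      exact hjk h

end SL

section Orth

variable {F : Type} [Field F] [Fintype F] {ι : Type} [Fintype ι] [DecidableEq ι]

/-- `SL_w → Ω(Q)` -/
theorem exists_slw {Q : (ι → F) → F} {w : ℕ} (hw : 3 ≤ w)
    (hemb : ∃ f : Cfsg.isometryGroup F (Cfsg.quadFormPlus w F) →* Cfsg.isometryGroup F Q, Function.Injective f) :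
    ∃ f : Matrix.SpecialLinearGroup (Fin w) F →* Cfsg.Omega F Q, Function.Injective f := by
  obtain ⟨f, hf⟩ := hemb
  obtain ⟨g, hg⟩ := H104.OrthEmb.exists_emb_sl (F := F) w
  let f' : Matrix.SpecialLinearGroup (Fin w) F →* Cfsg.isometryGroup F Q := f.comp g
  have hmem : ∀ x : Matrix.SpecialLinearGroup (Fin w) F, f' x ∈ Cfsg.Omega F Q := by
    intro x
    have h1 : x ∈ commutator (Matrix.SpecialLinearGroup (Fin w) F) := by
      rw [SLGen.commutator_eq_top (by simpa only [_root_.Fintype.card_fin] using hw)]; exact Subgroup.mem_top x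
    have h2 : f' x ∈ (commutator (Matrix.SpecialLinearGroup (Fin w) F)).map f' := ⟨x, h1, rfl⟩
    have h3 : (_root_.commutator (Matrix.SpecialLinearGroup (Fin w) F)).map f' ≤
        _root_.commutator (Cfsg.isometryGroup F Q) := by
      rw [commutator_def, commutator_def, Subgroup.map_commutator]
      exact Subgroup.commutator_mono le_top le_top
    exact h3 h2
  refine ⟨f'.codRestrict _ hmem, fun x y h => hg (hf ?_)⟩
  exact congrArg Subtype.val h

/-- no cyclic Sylow `p`-subgroup in the defining characteristic -/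
theorem nc_char {Q : QuadraticForm F (ι → F)} (hQ : (polarBilin Q).Nondegenerate)
    (hn : 3 ≤ Fintype.card ι) (hs : ∃ u : ι → F, u ≠ 0 ∧ Q u = 0) {w : ℕ} (hw : 3 ≤ w)
    (hemb : ∃ f : Cfsg.isometryGroup F (Cfsg.quadFormPlus w F) →* Cfsg.isometryGroup F (⇑Q),
      Function.Injective f) {p : ℕ} [hp : Fact p.Prime] (hp2 : p ≠ 2)
    (h : p ∣ Fintype.card F) : NC p (Cfsg.POmega F (⇑Q)) := by
  obtain ⟨f, hf⟩ := exists_slw hw hemb
  have hpF : (p : F) = 0 := by
    have h0 : p = ringChar F := by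
      obtain ⟨n, hn1, hn2⟩ := FiniteField.card F (ringChar F)
      rw [hn2] at h
      exact (Nat.prime_dvd_prime_iff_eq hp.out hn1).1 (hp.out.dvd_of_dvd_pow h)
    rw [h0]
    exact CharP.cast_eq_zero F (ringChar F)
  refine nc_of_sl hpF (i := (⟨0, by omega⟩ : Fin w)) (j := ⟨1, by omega⟩) (k := ⟨2, by omega⟩) (by simp) (by simp)
    (by simp) ((QuotientGroup.mk' (Subgroup.center (Cfsg.Omega F (⇑Q)))).comp f) ?_
  intro x hx h1
  have h2 := H104.OrthEmb.center_free hQ hn hs hp.out hp2 (f x) (by rw [← map_pow, hx, map_one]) h1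
  exact hf (by rw [h2, map_one])

/-- the orders of the `p`-elements of `Ω(Q)` -/
theorem order_omega {Q : QuadraticForm F (ι → F)} (hQ : (polarBilin Q).Nondegenerate)
    {p : ℕ} [hp : Fact p.Prime] (hp2 : p ≠ 2) (hpF : ¬ p ∣ Fintype.card F) {m : ℕ} (hm : Fintype.card ι ≤ 2 * m + 1)
    (x : Cfsg.Omega F (⇑Q)) {a : ℕ} (ha : 1 ≤ a) (hx : orderOf x = p ^ a) :
    ∃ e, 1 ≤ e ∧ e ≤ m ∧ (p ^ a ∣ Fintype.card F ^ e - 1 ∨ p ^ a ∣ Fintype.card F ^ e + 1) := by
  let φ : Cfsg.Omega F (⇑Q) →* Matrix ι ι F :=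
    (H104.OrthEmb.isoHom (⇑Q)).comp (Cfsg.Omega F (⇑Q)).subtype
  have hφ : Function.Injective φ := (H104.OrthEmb.isoHom_injective (⇑Q)).comp Subtype.val_injective
  obtain ⟨e, he1, he2, he3⟩ := exists_dvd (H104.OrthEmb.gram_det hQ) (H104.OrthEmb.gram_inv Q x.1) hp2 hpF ha
    (g := φ x) (by rw [← map_pow, ← hx, pow_orderOf_eq_one, map_one]) (by
      rw [← map_pow]
      intro h
      have h1 : x ^ (p ^ (a - 1)) = 1 := hφ (by rw [h, map_one])
      have h2 : p ^ a ∣ p ^ (a - 1) := by rw [← hx]; exact orderOf_dvd_of_pow_eq_one h1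
      have h3 := (Nat.pow_dvd_pow_iff_le_right hp.out.one_lt).1 h2
      omega)
  exact ⟨e, he1, by omega, he3⟩

/-- the minimal degree of `SL_w(q)` as a bound for a simple quotient of `Ω(Q)` -/
theorem minDeg_sl {Q : (ι → F) → F} {w : ℕ} (hw : 3 ≤ w)
    (hemb : ∃ f : Cfsg.isometryGroup F (Cfsg.quadFormPlus w F) →* Cfsg.isometryGroup F Q, Function.Injective f)
    (hex : (w, Fintype.card F) ≠ (3, 2) ∧ (w, Fintype.card F) ≠ (3, 4) ∧ (w, Fintype.card F) ≠ (4, 2) ∧
      (w, Fintype.card F) ≠ (4, 3)) {G : Type*} [Group G] [IsSimpleGroup G] (f : Cfsg.Omega F Q →* G)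
    (hker : ∀ z, f z = 1 → z ∈ Subgroup.center (Cfsg.Omega F Q)) :
    MinDeg G ((Fintype.card F ^ w - Fintype.card F) / (Fintype.card F - 1)) := by
  classical
  obtain ⟨g, hg⟩ := exists_slw hw hemb
  have h1 : MinDeg (Matrix.SpecialLinearGroup (Fin w) F) ((Fintype.card F ^ w - Fintype.card F) / (Fintype.card F - 1)) :=
    minDeg_of_fin (SLGen.commutator_eq_top (by simpa only [_root_.Fintype.card_fin] using hw)) (S2332.result w hw hex).1
  refine MinDeg.of_hom h1 (f.comp g) ?_
  by_contra hcon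
  push Not at hcon
  -- `SL_w` would be commutative
  obtain ⟨i, j, k, hij, hjk, hik⟩ : ∃ i j k : Fin w, i ≠ j ∧ j ≠ k ∧ i ≠ k :=
    ⟨⟨0, by omega⟩, ⟨1, by omega⟩, ⟨2, by omega⟩, by simp, by simp, by simp⟩
  have h2 : tv i j hij (1 : F) * tv j k hjk (1 : F) = tv j k hjk (1 : F) * tv i j hij (1 : F) := by
    apply hg
    rw [map_mul, map_mul]
    exact (Subgroup.mem_center_iff.1 (hker _ (hcon (tv j k hjk (1 : F)))) _)
  have h3 := congrArg (fun M : Matrix.SpecialLinearGroup (Fin w) F => (M : Matrix (Fin w) (Fin w) F) i k) h2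
  have h4 : (Matrix.transvection i j (1 : F) * Matrix.transvection j k (1 : F)) i k =
    (Matrix.transvection j k (1 : F) * Matrix.transvection i j (1 : F)) i k := h3
  have e1 : Matrix.single i j (1 : F) * Matrix.single j k (1 : F) = Matrix.single i k (1 * 1) :=
    Matrix.single_mul_single_same _ _ _ _ _
  have e2 : Matrix.single j k (1 : F) * Matrix.single i j (1 : F) = (0 : Matrix (Fin w) (Fin w) F) :=
    Matrix.single_mul_single_of_ne _ _ _ _ (Ne.symm hik) _
  simp only [Matrix.transvection, mul_add, add_mul, mul_one, one_mul, e1, e2, Matrix.add_apply,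
    Matrix.single_apply_same, Matrix.zero_apply] at h4
  rw [add_zero, Matrix.one_apply_ne hik, zero_add, zero_add] at h4
  have h5 : (1 : F) = 0 := by linear_combination h4
  exact one_ne_zero h5

end Orth

end Cfsg.Agent.H122.Cyc
end

-- part: H124/Cyc/RowPSL
section
/-!
# The row `PSL` of S2351
-/

set_option autoImplicit false
set_option linter.unusedSectionVars false

namespace Cfsg.Agent.H124.RowPSL

open Module Matrix Cfsg Cfsg.Agent.H122 Cfsg.Agent.H121.Cyc Polynomial

/-- **orders of the `p`-elements of `GL_n(q)`** -/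
theorem exists_dvd {F : Type*} [Field F] [Fintype F] {ι : Type*} [Fintype ι] [DecidableEq ι]
    {g : Matrix ι ι F} {p a : ℕ} [hp : Fact p.Prime]
    (hpF : ¬ p ∣ Fintype.card F) (ha : 1 ≤ a) (hg1 : g ^ (p ^ a) = 1) (hg2 : g ^ (p ^ (a - 1)) ≠ 1) :
    ∃ k, 1 ≤ k ∧ k ≤ Fintype.card ι ∧ p ^ a ∣ Fintype.card F ^ k - 1 := by
  classical
  have hpF' : (p : F) ≠ 0 := by
    intro h
    apply hpF
    have h1 : ringChar F ∣ p := (ringChar.spec F p).1 h
    have h2 : p = ringChar F := by
      rcases (Nat.dvd_prime hp.out).1 h1 with h3 | h3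
      · exact absurd h3 CharP.ringChar_ne_one
      · exact h3.symm
    obtain ⟨n, -, hn⟩ := FiniteField.card F (ringChar F)
    rw [hn, h2]
    exact dvd_pow_self _ n.ne_zero
  obtain ⟨l, hl, hlo⟩ := Cfsg.Agent.H122.Cyc.exists_root hpF' ha hg1 hg2
  have hl0 : l ≠ 0 := by
    rintro rfl
    have h1 : (0 : AlgebraicClosure F) ^ (p ^ a) = 1 := by rw [← hlo]; exact pow_orderOf_eq_one _
    rw [zero_pow (pow_ne_zero _ hp.out.ne_zero)] at h1
    exact zero_ne_one h1
  set q := Fintype.card F with hq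
  have hcop : (p ^ a).Coprime q := ((Nat.Prime.coprime_iff_not_dvd hp.out).2 hpF).pow_left a
  have hc0 : g.charpoly.map (algebraMap F (AlgebraicClosure F)) ≠ 0 :=
    (g.charpoly_monic.map _).ne_zero
  have hmem : ∀ x : AlgebraicClosure F, aeval x g.charpoly = 0 →
      x ∈ (g.charpoly.map (algebraMap F (AlgebraicClosure F))).roots.toFinset := by
    intro x hx
    rw [Multiset.mem_toFinset, mem_roots']
    exact ⟨hc0, by rw [IsRoot.def, eval_map_algebraMap, hx]⟩
  have hcard : (g.charpoly.map (algebraMap F (AlgebraicClosure F))).roots.toFinset.card ≤ Fintype.card ι := by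
    refine (Multiset.toFinset_card_le _).trans ((card_roots' _).trans ?_)
    rw [natDegree_map, Matrix.charpoly_natDegree_eq_dim]
  -- two of the `card ι + 1` conjugates coincide
  obtain ⟨i, hi, j, hj, hij, he⟩ : ∃ i ∈ Finset.range (Fintype.card ι + 1), ∃ j ∈ Finset.range (Fintype.card ι + 1),
      i ≠ j ∧ l ^ (q ^ i) = l ^ (q ^ j) := by
    refine Finset.exists_ne_map_eq_of_card_lt_of_maps_to
      (t := (g.charpoly.map (algebraMap F (AlgebraicClosure F))).roots.toFinset) ?_ ?_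
    · rw [Finset.card_range]
      omega
    · intro i _
      exact hmem _ (Cfsg.Agent.H122.Cyc.frob_root hl i)
  rw [Finset.mem_range] at hi hj
  have key : ∀ i j : ℕ, i < j → j < Fintype.card ι + 1 → l ^ (q ^ i) = l ^ (q ^ j) →
      ∃ k, 1 ≤ k ∧ k ≤ Fintype.card ι ∧ p ^ a ∣ q ^ k - 1 := by
    intro i j hij hj he
    refine ⟨j - i, by omega, by omega, ?_⟩
    have h1 := (Cfsg.Agent.H122.Cyc.pow_eq_iff hl0 _ _).1 he
    rw [hlo] at h1
    have h2 := (Nat.modEq_iff_dvd' (Nat.pow_le_pow_right Fintype.card_pos hij.le)).1 h1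
    have h3 : q ^ j - q ^ i = q ^ i * (q ^ (j - i) - 1) := by
      rw [Nat.mul_sub, mul_one, ← pow_add]
      congr 2
      omega
    rw [h3] at h2
    exact (hcop.pow_right i).dvd_of_dvd_mul_left h2
  rcases Nat.lt_or_ge i j with h | h
  · exact key i j h hj he
  · exact key j i (by omega) hi he.symm

theorem order_sl {F : Type*} [Field F] [Fintype F] {n p : ℕ} [hp : Fact p.Prime] (hpF : ¬ p ∣ Fintype.card F)
    (x : Matrix.SpecialLinearGroup (Fin n) F) {a : ℕ} (ha : 1 ≤ a) (hx : orderOf x = p ^ a) :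
    ∃ k, 1 ≤ k ∧ k ≤ n ∧ p ^ a ∣ Fintype.card F ^ k - 1 := by
  obtain ⟨k, hk1, hk2, hk3⟩ := exists_dvd (g := x.1) (p := p) (a := a) hpF ha
    (by
      have h1 : x ^ p ^ a = 1 := by rw [← hx, pow_orderOf_eq_one]
      exact congrArg Subtype.val h1)
    (by
      intro h1
      have h2 : x ^ p ^ (a - 1) = 1 := Subtype.ext h1
      have h3 := orderOf_dvd_of_pow_eq_one h2
      rw [hx, Nat.pow_dvd_pow_iff_le_right hp.out.one_lt] at h3
      omega)
  exact ⟨k, hk1, by rwa [Fintype.card_fin] at hk2, hk3⟩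

/-! ### `n = 2` -/

theorem minDeg_two_odd {F : Type} [Field F] [Fintype F] (h : 3 < Fintype.card F) (hodd : Odd (Fintype.card F)) :
    MinDeg (Matrix.SpecialLinearGroup (Fin 2) F) ((Fintype.card F - 1) / 2) := by
  refine Cfsg.Agent.H121.Cyc.minDeg_of_fin (Cfsg.Agent.H259.NatMod.commutator_eq_top h) ?_
  intro k ρ hρ hk
  have h1 := (S2299.result hodd).1 ρ.character ⟨k, ρ, hρ, rfl⟩
  have h2 : ρ.character 1 = (k : ℂ) := by
    rw [Representation.char_one, Module.finrank_fin_fun]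
  rw [h2] at h1
  rcases h1 with h | h | h | h | h | h
  · have : k = 1 := by exact_mod_cast h
    omega
  · have : k = Fintype.card F := by exact_mod_cast h
    omega
  · have : k = Fintype.card F + 1 := by exact_mod_cast h
    omega
  · have h' : ((k + 1 : ℕ) : ℂ) = (Fintype.card F : ℂ) := by
      push_cast
      rw [h]; ring
    have : k + 1 = Fintype.card F := by exact_mod_cast h'
    omega
  · have : k = (Fintype.card F + 1) / 2 := by exact_mod_cast h
    omega
  · have : k = (Fintype.card F - 1) / 2 := by exact_mod_cast h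
    omega

theorem minDeg_two_even {F : Type} [Field F] [Fintype F] (h : 3 < Fintype.card F) [CharP F 2] :
    MinDeg (Matrix.SpecialLinearGroup (Fin 2) F) (Fintype.card F - 1) := by
  refine Cfsg.Agent.H121.Cyc.minDeg_of_fin (Cfsg.Agent.H259.NatMod.commutator_eq_top h) ?_
  intro k ρ hρ hk
  have h1 := (S2300.result (F := F)).1 ρ.character ⟨k, ρ, hρ, rfl⟩
  have h2 : ρ.character 1 = (k : ℂ) := by
    rw [Representation.char_one, Module.finrank_fin_fun]
  rw [h2] at h1
  rcases h1 with h | h | h | h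
  · have : k = 1 := by exact_mod_cast h
    omega
  · have h' : ((k + 1 : ℕ) : ℂ) = (Fintype.card F : ℂ) := by
      push_cast
      rw [h]; ring
    have : k + 1 = Fintype.card F := by exact_mod_cast h'
    omega
  · have : k = Fintype.card F := by exact_mod_cast h
    omega
  · have : k = Fintype.card F + 1 := by exact_mod_cast h
    omega

/-- `p ^ a` divides `q - 1` or `q + 1` -/
theorem dvd_or {q p a k : ℕ} (hp : p.Prime) (hp2 : p ≠ 2) (hq : 2 ≤ q) (hk1 : 1 ≤ k) (hk2 : k ≤ 2)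
    (h : p ^ a ∣ q ^ k - 1) : p ^ a ∣ q - 1 ∨ p ^ a ∣ q + 1 := by
  interval_cases k
  · left; rwa [pow_one] at h
  · have e : q ^ 2 - 1 = (q - 1) * (q + 1) := by
      obtain ⟨t, rfl⟩ := Nat.exists_eq_add_of_le' (show 1 ≤ q by omega)
      have : (t + 1) ^ 2 = t * (t + 1 + 1) + 1 := by ring
      rw [this, Nat.add_sub_cancel, Nat.add_sub_cancel]
    rw [e] at h
    by_cases h1 : p ∣ q - 1
    · left
      have h2 : ¬ p ∣ q + 1 := by
        intro h2
        have h3 : p ∣ (q + 1) - (q - 1) := Nat.dvd_sub h2 h1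
        have h4 : (q + 1) - (q - 1) = 2 := by omega
        rw [h4] at h3
        exact hp2 ((Nat.prime_dvd_prime_iff_eq hp Nat.prime_two).1 h3)
      exact (((Nat.Prime.coprime_iff_not_dvd hp).2 h2).pow_left a).dvd_of_dvd_mul_right h
    · right
      exact (((Nat.Prime.coprime_iff_not_dvd hp).2 h1).pow_left a).dvd_of_dvd_mul_left h

theorem rowS_two {p : ℕ} [hp : Fact p.Prime] (hp2 : p ≠ 2) {F : Type} [Field F] [Fintype F] (h4 : 4 ≤ Fintype.card F)
    (hpF : ¬ p ∣ Fintype.card F) : RowS p (Matrix.ProjectiveSpecialLinearGroup (Fin 2) F) := by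
  have hfin2 : Finite (Matrix.ProjectiveSpecialLinearGroup (Fin 2) F) := Quotient.finite _
  have hsurj : Function.Surjective (QuotientGroup.mk' (Subgroup.center (Matrix.SpecialLinearGroup (Fin 2) F))) :=
    QuotientGroup.mk'_surjective _
  rcases Nat.even_or_odd (Fintype.card F) with hev | hodd
  · have hchar : CharP F 2 := by
      have h1 := FiniteField.even_card_iff_char_two (F := F)
      have h2 : ringChar F = 2 := h1.2 (Nat.even_iff.1 hev)
      rw [← h2]
      exact ringChar.charP F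
    refine RowS.of_surjective hsurj ((minDeg_two_even (by omega)).of_surjective _ hsurj) fun x a ha hx => ?_
    obtain ⟨k, hk1, hk2, hk3⟩ := order_sl hpF x (by omega) hx
    rcases dvd_or hp.out hp2 (by omega) hk1 hk2 hk3 with h | h
    · have := Nat.le_of_dvd (by omega) h
      omega
    · have := Nat.le_of_dvd (by omega) h
      omega
  · refine RowS.of_surjective hsurj ((minDeg_two_odd (by omega) hodd).of_surjective _ hsurj) fun x a ha hx => ?_
    obtain ⟨k, hk1, hk2, hk3⟩ := order_sl hpF x (by omega) hx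
    obtain ⟨t, ht⟩ := hodd
    have hc : Nat.Coprime (p ^ a) 2 :=
      Nat.Coprime.pow_left a ((Nat.coprime_primes hp.out Nat.prime_two).2 hp2)
    rcases dvd_or hp.out hp2 (by omega) hk1 hk2 hk3 with h | h
    · have h1 : Fintype.card F - 1 = 2 * t := by omega
      rw [h1] at h
      have := Nat.le_of_dvd (by omega) (hc.dvd_of_dvd_mul_left h)
      omega
    · have h1 : Fintype.card F + 1 = 2 * (t + 1) := by omega
      rw [h1] at h
      have := Nat.le_of_dvd (by omega) (hc.dvd_of_dvd_mul_left h)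
      omega

/-! ### `n ≥ 3` -/

theorem sq_small {p k : ℕ} (hp : p.Prime) (hp2 : p ≠ 2) {N : ℕ} (hN : 0 < N) (hN2 : N < 100) (h : p ^ k ∣ N) (hk : 2 ≤ k)
    (hs : ∀ r < 10, 3 ≤ r → ¬ r ^ 2 ∣ N) : False := by
  have h1 : p ^ 2 ∣ N := (pow_dvd_pow p hk).trans h
  have h2 := Nat.le_of_dvd hN h1
  have h3 : p < 10 := by
    by_contra hcon
    have : 10 * 10 ≤ p * p := Nat.mul_le_mul (by omega) (by omega)
    rw [pow_two] at h2
    omega
  have h4 : 3 ≤ p := by have := hp.two_le; omega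
  exact hs p h3 h4 h1

theorem rowS_ge_three {p : ℕ} [hp : Fact p.Prime] (hp2 : p ≠ 2) {F : Type} [Field F] [Fintype F] {n : ℕ} (hn : 3 ≤ n)
    (hpF : ¬ p ∣ Fintype.card F) : RowS p (Matrix.ProjectiveSpecialLinearGroup (Fin n) F) := by
  classical
  have hfin2 : Finite (Matrix.ProjectiveSpecialLinearGroup (Fin n) F) := Quotient.finite _
  have hsurj : Function.Surjective (QuotientGroup.mk' (Subgroup.center (Matrix.SpecialLinearGroup (Fin n) F))) :=
    QuotientGroup.mk'_surjective _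
  have hq2 : 2 ≤ Fintype.card F := Fintype.one_lt_card
  by_cases h1 : p ∣ Fintype.card F - 1
  · exact RowS.of_nc (H124.SplitNC.psl hp2 hn h1)
  by_cases hex : (n, Fintype.card F) ≠ (3, 2) ∧ (n, Fintype.card F) ≠ (3, 4) ∧ (n, Fintype.card F) ≠ (4, 2) ∧
      (n, Fintype.card F) ≠ (4, 3)
  · have hM : MinDeg (Matrix.SpecialLinearGroup (Fin n) F) ((Fintype.card F ^ n - Fintype.card F) / (Fintype.card F - 1)) :=
      Cfsg.Agent.H121.Cyc.minDeg_of_fin (Cfsg.Agent.LieClassical.SLGen.commutator_eq_top (by simpa only [_root_.Fintype.card_fin] using hn)) (S2332.result n hn hex).1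
    refine RowS.of_surjective hsurj (hM.of_surjective _ hsurj) fun x a ha hx => ?_
    obtain ⟨k, hk1, hk2, hk3⟩ := order_sl hpF x (by omega) hx
    set q := Fintype.card F with hq
    -- `p ^ a * (q - 1) ≤ q ^ n - 1`
    have h2 : p ^ a * (q - 1) ∣ q ^ k - 1 := by
      refine Nat.Coprime.mul_dvd_of_dvd_of_dvd (((Nat.Prime.coprime_iff_not_dvd hp.out).2 h1).pow_left a) hk3 ?_
      have := Nat.sub_dvd_pow_sub_pow q 1 k
      rwa [one_pow] at this
    have h3 : q ^ k ≤ q ^ n := Nat.pow_le_pow_right (by omega) hk2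
    have h4 : 2 ≤ q ^ k := hq2.trans (Nat.le_self_pow (by omega) q)
    have h5 := Nat.le_of_dvd (by omega) h2
    have h6 : p ^ a ≤ (q ^ n - 1) / (q - 1) := by
      rw [Nat.le_div_iff_mul_le (by omega)]
      omega
    have h7 : (q ^ n - 1) / (q - 1) = (q ^ n - q) / (q - 1) + 1 := by
      have h8 : q ≤ q ^ n := Nat.le_self_pow (by omega) q
      have h9 : q ^ n - 1 = (q ^ n - q) + (q - 1) := by omega
      rw [h9, Nat.add_div_right _ (by omega)]
    omega
  · -- no elements of order `p ^ a`, `a ≥ 2`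
    refine RowS.of_surjective hsurj (minDeg_one _) fun x a ha hx => ?_
    exfalso
    obtain ⟨k, hk1, hk2, hk3⟩ := order_sl hpF x (by omega) hx
    have hex' : (n = 3 ∧ Fintype.card F = 2) ∨ (n = 3 ∧ Fintype.card F = 4) ∨ (n = 4 ∧ Fintype.card F = 2) ∨
        (n = 4 ∧ Fintype.card F = 3) := by
      by_contra hcon
      apply hex
      simp only [ne_eq, Prod.mk.injEq]
      (clear * - hcon; tauto)
    rcases hex' with ⟨rfl, hc⟩ | ⟨rfl, hc⟩ | ⟨rfl, hc⟩ | ⟨rfl, hc⟩
    · rw [hc] at hk3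
      interval_cases k
      · exact sq_small hp.out hp2 (by norm_num) (by norm_num) hk3 ha (by decide)
      · exact sq_small hp.out hp2 (by norm_num) (by norm_num) hk3 ha (by decide)
      · exact sq_small hp.out hp2 (by norm_num) (by norm_num) hk3 ha (by decide)
    · rw [hc] at hk3 h1
      interval_cases k
      · exact h1 ((dvd_pow_self p (by omega)).trans hk3)
      · exact sq_small hp.out hp2 (by norm_num) (by norm_num) hk3 ha (by decide)
      · have h3 : p ∣ 3 := by
          have h4 : p ^ 2 ∣ 63 := (pow_dvd_pow p ha).trans hk3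
          have h5 := Nat.le_of_dvd (by norm_num) h4
          have h6 : p < 8 := by
            by_contra hcon
            have : 8 * 8 ≤ p * p := Nat.mul_le_mul (by omega) (by omega)
            rw [pow_two] at h5
            omega
          have h7 : ∀ r < 8, r ^ 2 ∣ 63 → r ∣ 3 := by decide
          exact h7 p h6 h4
        exact h1 h3
    · rw [hc] at hk3
      interval_cases k
      · exact sq_small hp.out hp2 (by norm_num) (by norm_num) hk3 ha (by decide)
      · exact sq_small hp.out hp2 (by norm_num) (by norm_num) hk3 ha (by decide)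
      · exact sq_small hp.out hp2 (by norm_num) (by norm_num) hk3 ha (by decide)
      · exact sq_small hp.out hp2 (by norm_num) (by norm_num) hk3 ha (by decide)
    · rw [hc] at hk3
      have hp2' : ∀ N : ℕ, p ^ a ∣ 2 ^ 4 * N → p ^ a ∣ N := fun N h =>
        (Nat.Coprime.pow a 4 ((Nat.coprime_primes hp.out Nat.prime_two).2 hp2)).dvd_of_dvd_mul_left h
      interval_cases k
      · exact sq_small hp.out hp2 (by norm_num) (by norm_num) hk3 ha (by decide)
      · exact sq_small hp.out hp2 (N := 1) (by norm_num) (by norm_num)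
          (hp2' 1 (hk3.trans (by norm_num))) ha (by decide)
      · exact sq_small hp.out hp2 (by norm_num) (by norm_num) hk3 ha (by decide)
      · exact sq_small hp.out hp2 (N := 5) (by norm_num) (by norm_num)
          (hp2' 5 (hk3.trans (by norm_num))) ha (by decide)

/-- **The row `PSL`.** -/
theorem rowS_psl {p : ℕ} [hp : Fact p.Prime] (hp2 : p ≠ 2) {G : Type*} [Group G] [Finite G] [IsSimpleGroup G]
    (h : Cfsg.IsPSL G) : RowS p G := by
  obtain ⟨F, _, _, n, hn, h4, ⟨e⟩⟩ := h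
  rcases Cfsg.Agent.H123.RowPSp.char_or F p with h1 | h1
  · exact Cfsg.Agent.H123.RowPSp.rowS_char hp2 (Or.inl ⟨F, inferInstance, inferInstance, h1, n, hn, h4, ⟨e⟩⟩)
  refine RowS.congr ?_ e.symm
  rcases Nat.lt_or_ge n 3 with h | h
  · have h2 : n = 2 := by omega
    subst h2
    exact rowS_two hp2 (h4 rfl) h1
  · exact rowS_ge_three hp2 h h1

end Cfsg.Agent.H124.RowPSL
end
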